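import Groth.Agent.Lib.CMChart4
import Groth.Agent.Lib.CI2.Smooth
import Groth.Agent.Lib.SchBasic.Basic
import Groth.Agent.S8586
import Mathlib.AlgebraicGeometry.AlgClosed.Basic

/-!
Quasi-finite flat maps to affine space at closed points over an algebraically closed field, in terms of systems of
parameters in the local ring.
-/

set_option autoImplicit false
set_option linter.style.haveILetI false
set_option backward.isDefEq.respectTransparency false
set_option backward.isDefEq.respectTransparency.types false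

universe u

open AlgebraicGeometry CategoryTheory Limits IsLocalRing TopologicalSpace Groth.Agent.FibDim14 Groth.Agent.VarDim

noncomputable section

namespace Groth.Agent.QFChain4

variable {k : Type u} [Field k] {ι : Type u} [Finite ι]


/-- The coordinates. -/
abbrev crd (i : ι) : Γ((𝔸(ι; Spec (CommRingCat.of k))), ⊤) := AffineSpace.coord (Spec (CommRingCat.of k)) i

theorem ringKrullDim_stalk {d : ℕ} (e : ι ≃ Fin d) (y : (𝔸(ι; Spec (CommRingCat.of k)))) (hy : IsClosed ({y} : Set (𝔸(ι; Spec (CommRingCat.of k))))) :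
    ringKrullDim (((𝔸(ι; Spec (CommRingCat.of k)))).presheaf.stalk y) = (d : WithBot ℕ∞) := by
  let E := AffineSpace.SpecIso ι (CommRingCat.of k)
  let t := E.hom y
  have ht : IsClosed ({t} : Set (Spec (CommRingCat.of (MvPolynomial ι k)))) := by
    rw [show ({t} : Set (Spec (CommRingCat.of (MvPolynomial ι k)))) = E.hom.homeomorph '' {y} from (Set.image_singleton (f := E.hom.homeomorph) (a := y)).symm]
    exact E.hom.homeomorph.isClosedMap _ hy
  haveI : t.asIdeal.IsMaximal := (PrimeSpectrum.isClosed_singleton_iff_isMaximal t).1 ht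
  rw [← ringKrullDim_eq_of_ringEquiv (asIso (E.hom.stalkMap y)).commRingCatIsoToRingEquiv]
  letI : Algebra (MvPolynomial ι k) ((Spec (CommRingCat.of (MvPolynomial ι k))).presheaf.stalk t) :=
    StructureSheaf.stalkAlgebra _ t
  haveI : IsLocalization.AtPrime ((Spec (CommRingCat.of (MvPolynomial ι k))).presheaf.stalk t) t.asIdeal :=
    StructureSheaf.IsLocalization.to_stalk _ t
  show ringKrullDim ((Spec (CommRingCat.of (MvPolynomial ι k))).presheaf.stalk t) = _
  rw [IsLocalization.AtPrime.ringKrullDim_eq_height t.asIdeal]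
  let r := (MvPolynomial.renameEquiv k e).toRingEquiv
  haveI : (t.asIdeal.map r).IsMaximal := Ideal.map_isMaximal_of_equiv r
  rw [← RingEquiv.height_map r t.asIdeal, CI2.height_maximal_mvPolynomial (k := k) (t.asIdeal.map r)]
  rfl

variable {W : Scheme.{u}} (q : W ⟶ (Spec (CommRingCat.of k)))

/-- Constants. -/
def kst (q : W ⟶ Spec (CommRingCat.of k)) (x : W) : k →+* W.presheaf.stalk x :=
  (W.presheaf.germ ⊤ x trivial).hom.comp (((Scheme.ΓSpecIso (CommRingCat.of k)).inv ≫ q.appTop).hom)

/-- The shifted coordinates of a map to affine space at a point. -/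
def shifted (q : W ⟶ Spec (CommRingCat.of k)) (w : W ⟶ (𝔸(ι; Spec (CommRingCat.of k)))) (x : W) (c : ι → k) (i : ι) : W.presheaf.stalk x :=
  W.presheaf.germ ⊤ x trivial (w.appTop (crd i)) - kst q x (c i)

theorem kst_comp (w : W ⟶ (𝔸(ι; Spec (CommRingCat.of k)))) (hw : w ≫ ((𝔸(ι; Spec (CommRingCat.of k))) ↘ (Spec (CommRingCat.of k))) = q) (x : W) (a : k) :
    kst q x a = w.stalkMap x (kst ((𝔸(ι; Spec (CommRingCat.of k))) ↘ (Spec (CommRingCat.of k))) (w x) a) := by
  subst hw
  show W.presheaf.germ ⊤ x trivial ((w ≫ ((𝔸(ι; Spec (CommRingCat.of k))) ↘ (Spec (CommRingCat.of k)))).appTop ((Scheme.ΓSpecIso (CommRingCat.of k)).inv a)) =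
    w.stalkMap x (((𝔸(ι; Spec (CommRingCat.of k)))).presheaf.germ ⊤ (w x) trivial (((𝔸(ι; Spec (CommRingCat.of k))) ↘ (Spec (CommRingCat.of k))).appTop _))
  rw [Scheme.Hom.germ_stalkMap_apply, Scheme.Hom.comp_appTop]
  rfl

variable (w : W ⟶ (𝔸(ι; Spec (CommRingCat.of k)))) (hw : w ≫ ((𝔸(ι; Spec (CommRingCat.of k))) ↘ (Spec (CommRingCat.of k))) = q) (x : W) (c : ι → k)

include hw in
theorem shifted_mem_map (hc : ∀ i, shifted q w x c i ∈ maximalIdeal (W.presheaf.stalk x)) (i : ι) :
    shifted q w x c i ∈ (maximalIdeal (((𝔸(ι; Spec (CommRingCat.of k)))).presheaf.stalk (w x))).map (w.stalkMap x).hom := by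
  have h : shifted q w x c i = w.stalkMap x (((𝔸(ι; Spec (CommRingCat.of k)))).presheaf.germ ⊤ (w x) trivial (crd i) - kst ((𝔸(ι; Spec (CommRingCat.of k))) ↘ (Spec (CommRingCat.of k))) (w x) (c i)) := by
    rw [map_sub, ← kst_comp q w hw, Scheme.Hom.germ_stalkMap_apply]
    rfl
  rw [h]
  refine Ideal.mem_map_of_mem _ fun hu => ?_
  have := hc i
  rw [h] at this
  exact (mem_maximalIdeal _).1 this (hu.map (w.stalkMap x).hom)

variable [LocallyOfFiniteType q]

include hw in
theorem ringKrullDim_fibre_eq_zero (hc : ∀ i, shifted q w x c i ∈ maximalIdeal (W.presheaf.stalk x))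
    (hr : maximalIdeal (W.presheaf.stalk x) ≤ (Ideal.span (Set.range (shifted q w x c))).radical) :
    ringKrullDim (W.presheaf.stalk x ⧸ (maximalIdeal (((𝔸(ι; Spec (CommRingCat.of k)))).presheaf.stalk (w x))).map (w.stalkMap x).hom) = 0 := by
  let J := (maximalIdeal (((𝔸(ι; Spec (CommRingCat.of k)))).presheaf.stalk (w x))).map (w.stalkMap x).hom
  have hJ : J ≤ maximalIdeal (W.presheaf.stalk x) := by
    haveI : IsLocalHom (w.stalkMap x).hom := w.toLRSHom.prop x
    exact Ideal.map_le_iff_le_comap.2 fun a ha => map_nonunit (w.stalkMap x).hom a ha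
  have hspan : Ideal.span (Set.range (shifted q w x c)) ≤ J :=
    Ideal.span_le.2 fun _ ⟨i, hi⟩ => hi ▸ shifted_mem_map q w hw x c hc i
  haveI : Nontrivial (W.presheaf.stalk x ⧸ J) :=
    Ideal.Quotient.nontrivial_iff.2 fun h => Ideal.IsPrime.ne_top inferInstance (top_le_iff.1 (h ▸ hJ))
  haveI : Ring.KrullDimLE 0 (W.presheaf.stalk x ⧸ J) := by
    refine Ring.KrullDimLE.mk₀ fun P hP => ?_
    have h1 : maximalIdeal (W.presheaf.stalk x) ≤ P.comap (Ideal.Quotient.mk J) :=
      (hr.trans (Ideal.radical_mono hspan)).trans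
        ((Ideal.IsPrime.radical_le_iff inferInstance).2 fun a ha => by
          rw [Ideal.mem_comap, Ideal.Quotient.eq_zero_iff_mem.2 ha]; exact zero_mem _)
    have h2 : P.comap (Ideal.Quotient.mk J) = maximalIdeal (W.presheaf.stalk x) :=
      ((IsLocalRing.maximalIdeal.isMaximal _).eq_of_le (Ideal.IsPrime.ne_top inferInstance) h1).symm
    haveI : (P.comap (Ideal.Quotient.mk J)).IsMaximal := h2 ▸ inferInstance
    refine ((Ideal.map_eq_top_or_isMaximal_of_surjective (Ideal.Quotient.mk J) Ideal.Quotient.mk_surjective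
      ‹(P.comap (Ideal.Quotient.mk J)).IsMaximal›).resolve_left fun h => hP.ne_top ?_) |> fun h => ?_
    · rwa [Ideal.map_comap_of_surjective _ Ideal.Quotient.mk_surjective] at h
    · rwa [Ideal.map_comap_of_surjective _ Ideal.Quotient.mk_surjective] at h
  exact ringKrullDimZero_iff_ringKrullDim_eq_zero.1 inferInstance

include hw in
/-- Miracle flatness and quasi-finiteness from a system of parameters. -/
theorem flat_and_quasiFiniteAt [IsAlgClosed k] {d : ℕ} (e : ι ≃ Fin d) (hx : IsClosed ({x} : Set W))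
    (hCM : LocCoh.IsCohenMacaulayLocalRing (W.presheaf.stalk x))
    (hdim : ringKrullDim (W.presheaf.stalk x) = (d : WithBot ℕ∞))
    (hc : ∀ i, shifted q w x c i ∈ maximalIdeal (W.presheaf.stalk x))
    (hr : maximalIdeal (W.presheaf.stalk x) ≤ (Ideal.span (Set.range (shifted q w x c))).radical) :
    (w.stalkMap x).hom.Flat ∧ w.QuasiFiniteAt x := by
  haveI : LocallyOfFiniteType (w ≫ ((𝔸(ι; Spec (CommRingCat.of k))) ↘ (Spec (CommRingCat.of k)))) := hw.symm ▸ inferInstance
  haveI : LocallyOfFiniteType w := locallyOfFiniteType_of_comp w ((𝔸(ι; Spec (CommRingCat.of k))) ↘ (Spec (CommRingCat.of k)))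
  have hy : IsClosed ({w x} : Set (𝔸(ι; Spec (CommRingCat.of k)))) := by
    let p := pointOfClosedPoint q x hx
    have hp : p ≫ q = 𝟙 _ := pointOfClosedPoint_comp q x hx
    haveI : LocallyOfFiniteType ((𝔸(ι; Spec (CommRingCat.of k))) ↘ (Spec (CommRingCat.of k))) := inferInstance
    have h := ((pointEquivClosedPoint ((𝔸(ι; Spec (CommRingCat.of k))) ↘ (Spec (CommRingCat.of k)))) ⟨p ≫ w, by rw [Category.assoc, hw, hp]⟩).2
    have e1 : (((pointEquivClosedPoint ((𝔸(ι; Spec (CommRingCat.of k))) ↘ (Spec (CommRingCat.of k)))) ⟨p ≫ w, by rw [Category.assoc, hw, hp]⟩ : closedPoints (𝔸(ι; Spec (CommRingCat.of k)))) : (𝔸(ι; Spec (CommRingCat.of k)))) = w x :=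
      congrArg w (pointOfClosedPoint_apply q x hx (IsLocalRing.closedPoint k))
    exact e1 ▸ h
  have h0 := ringKrullDim_fibre_eq_zero q w hw x c hc hr
  refine ⟨?_, ?_⟩
  · algebraize [(w.stalkMap x).hom]
    haveI : IsLocalHom (algebraMap (((𝔸(ι; Spec (CommRingCat.of k)))).presheaf.stalk (w x)) (W.presheaf.stalk x)) := w.toLRSHom.prop x
    haveI : IsRegularLocalRing (((𝔸(ι; Spec (CommRingCat.of k)))).presheaf.stalk (w x)) := SmoothReg17.isRegularLocalRing_stalk ((𝔸(ι; Spec (CommRingCat.of k))) ↘ (Spec (CommRingCat.of k))) (w x)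
    haveI := hCM
    refine Miracle4.flat_of_ringKrullDim_eq ?_
    rw [hdim, ringKrullDim_stalk e (w x) hy]
    exact ((congrArg (_ + ·) h0).trans (add_zero _)).symm
  · rw [← fibreDimAt_eq_zero_iff]
    obtain ⟨n, hn, hn'⟩ := CMEquiDim4.exists_stalk_dim (toPt w (w x)) (w.asFiber x)
    obtain ⟨e₀⟩ := FlatDepth.nonempty_fiberStalkEquiv w x
    have hz : IsClosed ({w.asFiber x} : Set (w.fiber (w x))) := by
      have : ({w.asFiber x} : Set (w.fiber (w x))) = w.fiberι (w x) ⁻¹' {x} := by
        ext z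
        refine ⟨fun h => h ▸ w.fiberι_asFiber x, fun h => ?_⟩
        exact (w.fiberι (w x)).isEmbedding.injective ((h : w.fiberι (w x) z = x).trans (w.fiberι_asFiber x).symm)
      rw [this]
      exact hx.preimage (w.fiberι (w x)).continuous
    have hn0 : n = 0 := by
      have h1 := (ringKrullDim_eq_of_ringEquiv e₀).symm.trans h0
      rw [show ringKrullDim (CInt.fiberStalk w x) = _ from hn] at h1
      exact_mod_cast h1
    rw [show FlatMor.fibreDimAt w x = FlatMor.localDim (w.fiber (w x)) (w.asFiber x) from rfl, hn',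
      (sdim_eq_zero_iff_isClosed (toPt w (w x)) (w.asFiber x)).2 hz, hn0]
    rfl

include hw in
/-- A flat quasi-finite map gives a system of parameters. -/
theorem exists_sop [IsAlgClosed k] {d : ℕ} (e : ι ≃ Fin d) (hx : IsClosed ({x} : Set W)) [LocallyQuasiFinite w]
    [Flat w] :
    ∃ c : ι → k, (∀ i, shifted q w x c i ∈ maximalIdeal (W.presheaf.stalk x)) ∧
      maximalIdeal (W.presheaf.stalk x) ≤ (Ideal.span (Set.range (shifted q w x c))).radical ∧
      ringKrullDim (W.presheaf.stalk x) = (d : WithBot ℕ∞) := by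
  let p := pointOfClosedPoint q x hx
  have hp : p ≫ q = 𝟙 _ := pointOfClosedPoint_comp q x hx
  have hpx : p (IsLocalRing.closedPoint k) = x := pointOfClosedPoint_apply q x hx _
  let c : ι → k := fun i => (Scheme.ΓSpecIso (CommRingCat.of k)).hom (p.appTop (w.appTop (crd i)))
  let kW : k →+* Γ(W, ⊤) := ((Scheme.ΓSpecIso (CommRingCat.of k)).inv ≫ q.appTop).hom
  have hkW : ∀ a, p.appTop (kW a) = (Scheme.ΓSpecIso (CommRingCat.of k)).inv a := fun a => by
    show p.appTop (q.appTop ((Scheme.ΓSpecIso (CommRingCat.of k)).inv a)) = _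
    rw [← CommRingCat.comp_apply, ← Scheme.Hom.comp_appTop, hp, Scheme.Hom.id_appTop]
    rfl
  let g : ι → Γ(W, ⊤) := fun i => w.appTop (crd i) - kW (c i)
  have hg : ∀ i, shifted q w x c i = W.presheaf.germ ⊤ x trivial (g i) := fun i => (map_sub _ _ _).symm
  have hg0 : ∀ i, p.appTop (g i) = 0 := fun i => by
    rw [map_sub, hkW]
    show p.appTop (w.appTop (crd i)) - (Scheme.ΓSpecIso (CommRingCat.of k)).inv ((Scheme.ΓSpecIso _).hom _) = 0
    rw [Iso.hom_inv_id_apply, sub_self]
  have hmem : ∀ i, shifted q w x c i ∈ maximalIdeal (W.presheaf.stalk x) := fun i hu => by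
    rw [hg] at hu
    have h1 : p (IsLocalRing.closedPoint k) ∈ W.basicOpen (g i) := hpx.symm ▸ (W.mem_basicOpen (g i) x trivial).2 hu
    have h2 : IsLocalRing.closedPoint k ∈ p ⁻¹ᵁ W.basicOpen (g i) := h1
    rw [Scheme.preimage_basicOpen_top, hg0, Scheme.basicOpen_zero] at h2
    exact h2
  have hrad : maximalIdeal (W.presheaf.stalk x) ≤ (Ideal.span (Set.range (shifted q w x c))).radical := by
    rw [Ideal.radical_eq_sInf]
    refine le_sInf fun P ⟨hP, hPprime⟩ => ?_
    haveI := hPprime
    let O := CommRingCat.of (W.presheaf.stalk x)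
    let pr : Spec (W.presheaf.stalk x) := ⟨P, hPprime⟩
    let r : Spec (CommRingCat.of P.ResidueField) ⟶ Spec (W.presheaf.stalk x) :=
      Spec.map (CommRingCat.ofHom (algebraMap (W.presheaf.stalk x) P.ResidueField))
    let r' := r ≫ W.fromSpecStalk x
    have hrg : ∀ i, r'.appTop (g i) = 0 := fun i => by
      show r.appTop ((W.fromSpecStalk x).appTop (g i)) = 0
      have e1 : (W.fromSpecStalk x).appTop (g i) =
          (Scheme.ΓSpecIso (W.presheaf.stalk x)).inv (W.presheaf.germ ⊤ x trivial (g i)) := by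
        rw [Scheme.fromSpecStalk_appTop, show (homOfLE (le_top : (⊤ : (Spec (W.presheaf.stalk x)).Opens) ≤ ⊤)).op = 𝟙 _ from rfl,
          CategoryTheory.Functor.map_id, Category.comp_id]
        rfl
      rw [e1, ← CommRingCat.comp_apply _ r.appTop, ← Scheme.ΓSpecIso_inv_naturality, CommRingCat.comp_apply, ← hg]
      rw [show (CommRingCat.ofHom (algebraMap (W.presheaf.stalk x) P.ResidueField)) (shifted q w x c i) = 0 from
        Ideal.algebraMap_residueField_eq_zero.2 (hP (Ideal.subset_span ⟨i, rfl⟩)), map_zero]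
    have heq : r' ≫ w = (r' ≫ q) ≫ p ≫ w := by
      refine AffineSpace.hom_ext ?_ fun i => ?_
      · simp only [Category.assoc, hw, hp, Category.comp_id]
      · simp only [Scheme.Hom.comp_appTop, CommRingCat.comp_apply]
        have h1 : r'.appTop (w.appTop (crd i)) = r'.appTop (kW (c i)) := by
          rw [← sub_eq_zero, ← map_sub]; exact hrg i
        rw [Scheme.Hom.comp_appTop] at h1
        refine h1.trans ?_
        show _ = r.appTop ((W.fromSpecStalk x).appTop (q.appTop (p.appTop (w.appTop (crd i)))))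
        show r.appTop ((W.fromSpecStalk x).appTop (q.appTop ((Scheme.ΓSpecIso (CommRingCat.of k)).inv (c i)))) = _
        rw [Iso.hom_inv_id_apply]
    let x' : W := W.fromSpecStalk x pr
    have hrpt : ∀ z, r z = pr := fun z => by
      refine PrimeSpectrum.ext ?_
      show z.asIdeal.comap (algebraMap (W.presheaf.stalk x) P.ResidueField) = P
      rw [(Ideal.eq_bot_or_top z.asIdeal).resolve_right z.2.ne_top, ← RingHom.ker_eq_comap_bot,
        Ideal.ker_algebraMap_residueField]
    let z₀ : Spec (CommRingCat.of P.ResidueField) := ⟨⊥, Ideal.isPrime_bot⟩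
    have hwx : w x' = w x := by
      have h1 : (r' ≫ w) z₀ = w x' := by
        show w (W.fromSpecStalk x (r z₀)) = _
        rw [hrpt]
      rw [← h1, heq]
      show w (p ((r' ≫ q) z₀)) = w x
      rw [Subsingleton.elim ((r' ≫ q) z₀) (IsLocalRing.closedPoint k), hpx]
    have hspec : x' ⤳ x := by
      have := ((IsLocalRing.specializes_closedPoint pr).map (W.fromSpecStalk x).continuous)
      rwa [Scheme.fromSpecStalk_closedPoint] at this
    obtain ⟨z, hz⟩ : x' ∈ Set.range (w.fiberι (w x)) := (w.range_fiberι (w x)).symm.le hwx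
    have hopen : IsOpen ({w.asFiber x} : Set (w.fiber (w x))) :=
      haveI : LocallyOfFiniteType (w ≫ (𝔸(ι; Spec (CommRingCat.of k)) ↘ Spec (CommRingCat.of k))) := hw.symm ▸ inferInstance
      haveI : LocallyOfFiniteType w := locallyOfFiniteType_of_comp w (𝔸(ι; Spec (CommRingCat.of k)) ↘ Spec (CommRingCat.of k))
      Scheme.Hom.quasiFiniteAt_iff_isOpen_singleton_asFiber.1 (w.quasiFiniteAt x)
    have hzx : z ⤳ w.asFiber x := by
      refine (w.fiberι (w x)).isEmbedding.specializes_iff.1 ?_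
      rw [hz, w.fiberι_asFiber]
      exact hspec
    have hx' : x' = x := by rw [← hz, show z = w.asFiber x from hzx.mem_open hopen rfl, w.fiberι_asFiber]
    have hpr : pr = IsLocalRing.closedPoint (W.presheaf.stalk x) :=
      (W.fromSpecStalk x).isEmbedding.injective (hx'.trans Scheme.fromSpecStalk_closedPoint.symm)
    exact (congrArg PrimeSpectrum.asIdeal hpr).ge
  refine ⟨c, hmem, hrad, ?_⟩
  · algebraize [(w.stalkMap x).hom]
    haveI : IsLocalHom (algebraMap (((𝔸(ι; Spec (CommRingCat.of k)))).presheaf.stalk (w x)) (W.presheaf.stalk x)) := w.toLRSHom.prop x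
    haveI : Module.Flat (((𝔸(ι; Spec (CommRingCat.of k)))).presheaf.stalk (w x)) (W.presheaf.stalk x) := Flat.stalkMap w x
    haveI : IsLocallyNoetherian W := LocallyOfFiniteType.isLocallyNoetherian q
    haveI : IsLocallyNoetherian (𝔸(ι; Spec (CommRingCat.of k))) := LocallyOfFiniteType.isLocallyNoetherian ((𝔸(ι; Spec (CommRingCat.of k))) ↘ (Spec (CommRingCat.of k)))
    rw [(FlatDepth.ring_fibre_invariants (A := ((𝔸(ι; Spec (CommRingCat.of k)))).presheaf.stalk (w x)) (B := W.presheaf.stalk x)).2]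
    have hy : IsClosed ({w x} : Set (𝔸(ι; Spec (CommRingCat.of k)))) := by
      have h := ((pointEquivClosedPoint ((𝔸(ι; Spec (CommRingCat.of k))) ↘ (Spec (CommRingCat.of k)))) ⟨p ≫ w, by rw [Category.assoc, hw, hp]⟩).2
      have e1 : (((pointEquivClosedPoint ((𝔸(ι; Spec (CommRingCat.of k))) ↘ (Spec (CommRingCat.of k)))) ⟨p ≫ w, by rw [Category.assoc, hw, hp]⟩ : closedPoints (𝔸(ι; Spec (CommRingCat.of k)))) : (𝔸(ι; Spec (CommRingCat.of k)))) = w x :=
        congrArg w hpx
      exact e1 ▸ h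
    rw [ringKrullDim_stalk e (w x) hy]
    refine (congrArg (_ + ·) ?_).trans (add_zero _)
    exact ringKrullDim_fibre_eq_zero q w hw x c hmem hrad

end Groth.Agent.QFChain4
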